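import Cfsg.Agent.H614.Val
import Cfsg.Agent.CharactersDeep.ModCongr
import Cfsg.Agent.Blocks.ExistsModular
import Cfsg.Agent.Blocks.Basic
import Cfsg.Agent.H439.CC.Mult_m3
import Cfsg.Agent.H493.CC.CoxD
import Cfsg.Agent.FastGrp
import Cfsg.Agent.Prune
set_option linter.all false

section
prune_inst 0x7f00000000000000000000000000000000000000000000000000000000000000000000000000000000000000000000000000000000000000000000000000000000000000000000000000000000000000003fffffffffffffffffffffffffffbeffbdffffffff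

-- part: H549/PBA/Val
section
set_option linter.all false
open scoped Cfsg.Agent.FastGrp

/-!
# `q`-adic classes of the symmetric groups (helper549, S4884)

If a character of the symmetric group does not vanish at the elements whose cycle lengths are the `q`-adic
expansion of the degree, then its degree is prime to `q` (`val_zero_of_ne`).
-/

set_option autoImplicit false
set_option linter.unusedSectionVars false

namespace Cfsg.Agent.H549.PBA

open Finset Cfsg.Agent.H614

variable {m : ℕ}

theorem injective_of_ne {s : Multiset ℕ} {β : Fin m → ℕ} (h : FM s β ≠ 0) : Function.Injective β := by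
  by_contra hcon
  exact h (Alt.eq_zero_of_not_injective (fun w hw => by omega) (FM_alt s) hcon)

/-- the `r`-weight -/
theorem weight_ge {r : ℕ} (hr : 0 < r) (v : Multiset ℕ) : ∀ (u : Multiset ℕ), (∀ x ∈ u, r ∣ x) → ∀ {β : Fin m → ℕ},
    FM (u + v) β ≠ 0 → u.sum / r + npairs r β ≤ ∑ j, β j / r := by
  intro u
  induction u using Multiset.induction with
  | empty =>
    intro _ β h
    simpa using npairs_le hr (injective_of_ne h)
  | cons x u ih =>
    intro hu β h
    obtain ⟨c, rfl⟩ := hu x (Multiset.mem_cons_self _ _)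
    rw [Multiset.cons_add, FM_cons] at h
    obtain ⟨j, -, hj⟩ := Finset.exists_ne_zero_of_sum_ne_zero h
    by_cases hle : r * c ≤ β j
    · rw [if_pos hle] at hj
      have h1 := ih (fun y hy => hu y (Multiset.mem_cons_of_mem hy)) hj
      rw [npairs_of_mod (dn_mod (dvd_mul_right r c) β j hle)] at h1
      have h2 := sum_div_dn hr β j hle
      rw [Multiset.sum_cons, Nat.mul_add_div hr]
      omega
    · rw [if_neg hle] at hj
      exact absurd rfl hj

section Val

variable {q : ℕ} [hq : Fact q.Prime]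

theorem padic_eq {x b : ℕ} (hx : x ≠ 0) (hb : x < q ^ b) :
    padicValNat q x = ∑ t ∈ Ico 1 b, if q ^ t ∣ x then 1 else 0 := by
  rw [← Finset.card_filter]
  have h1 : (Ico 1 b).filter (fun t => q ^ t ∣ x) = Ico 1 (padicValNat q x + 1) := by
    ext t
    rw [Finset.mem_filter, Finset.mem_Ico, Finset.mem_Ico, padicValNat_dvd_iff_le hx]
    constructor
    · rintro ⟨⟨h1, -⟩, h2⟩
      omega
    · rintro ⟨h1, h2⟩
      refine ⟨⟨h1, ?_⟩, by omega⟩
      have h3 : q ^ t ∣ x := (padicValNat_dvd_iff_le hx).2 (by omega)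
      have h4 := Nat.le_of_dvd (Nat.pos_of_ne_zero hx) h3
      exact (Nat.pow_lt_pow_iff_right hq.out.one_lt).1 (lt_of_le_of_lt h4 hb)
  rw [h1, Nat.card_Ico, Nat.add_sub_cancel]

theorem vd_eq {a c b : ℕ} (hne : a ≠ c) (ha : a < q ^ b) (hc : c < q ^ b) :
    vd q a c = ∑ t ∈ Ico 1 b, if a % q ^ t = c % q ^ t then 1 else 0 := by
  unfold vd
  rw [padic_eq (b := b) (by omega) (by omega)]
  refine Finset.sum_congr rfl fun t _ => if_congr ?_ rfl rfl
  rw [← Int.natCast_dvd, ← neg_sub, dvd_neg]
  push_cast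
  exact (Nat.modEq_iff_dvd (n := q ^ t) (a := a) (b := c)).symm.trans Iff.rfl

theorem sum_vd {β : Fin m → ℕ} (hβ : Function.Injective β) {b : ℕ} (hb : ∀ i, β i < q ^ b) :
    ∑ i, ∑ j, vd q (β i) (β j) = ∑ t ∈ Ico 1 b, 2 * npairs (q ^ t) β := by
  have h1 : ∀ i j, vd q (β i) (β j) + (if i = j then (Ico 1 b).card else 0) =
      ∑ t ∈ Ico 1 b, if β i % q ^ t = β j % q ^ t then 1 else 0 := by
    intro i j
    by_cases hij : i = j
    · subst hij
      rw [vd_self, if_pos rfl, zero_add, Finset.sum_congr rfl fun t _ => if_pos rfl, Finset.sum_const, smul_eq_mul,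
        mul_one]
    · rw [if_neg hij, add_zero]
      exact vd_eq (fun h => hij (hβ h)) (hb i) (hb j)
  have h2 : ∑ i : Fin m, ∑ j : Fin m, (if i = j then (Ico 1 b).card else 0) = m * (Ico 1 b).card := by
    simp
  have h3 : ∑ i, ∑ j, vd q (β i) (β j) + m * (Ico 1 b).card =
      ∑ i, ∑ j, ∑ t ∈ Ico 1 b, if β i % q ^ t = β j % q ^ t then 1 else 0 := by
    rw [← h2, ← Finset.sum_add_distrib]
    refine Finset.sum_congr rfl fun i _ => ?_
    rw [← Finset.sum_add_distrib]
    exact Finset.sum_congr rfl fun j _ => h1 i j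
  have h4 : ∑ i, ∑ j, ∑ t ∈ Ico 1 b, (if β i % q ^ t = β j % q ^ t then 1 else 0) =
      ∑ t ∈ Ico 1 b, (2 * npairs (q ^ t) β + m) := by
    rw [Finset.sum_congr rfl fun i _ => Finset.sum_comm, Finset.sum_comm]
    refine Finset.sum_congr rfl fun t _ => ?_
    rw [two_mul_npairs, Finset.card_filter, Fintype.sum_prod_type]
  rw [h4, Finset.sum_add_distrib, Finset.sum_const, smul_eq_mul, mul_comm m] at h3
  omega

/-- characters of full weights have degree prime to `q` -/
theorem val_zero {n : ℕ} {β : Fin m → ℕ} (hβ : Function.Injective β)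
    (hs : ∑ i, β i = n + ∑ i : Fin m, (i : ℕ)) (h : ∀ t, n / q ^ t + npairs (q ^ t) β ≤ ∑ j, β j / q ^ t) :
    padicValNat q (Int.natAbs (FM (Multiset.replicate n 1) β)) = 0 := by
  have h1 := val_formula (p := q) hβ hs
  obtain ⟨b, hb⟩ : ∃ b, n + ∑ i, β i < b := ⟨_, Nat.lt_succ_self _⟩
  have hbb : b < q ^ b := Nat.lt_pow_self hq.out.one_lt
  have hbi : ∀ i, β i < q ^ b := fun i => by
    have := Finset.single_le_sum (f := β) (fun j _ => Nat.zero_le _) (mem_univ i)
    omega
  have hlog : ∀ x, x < q ^ b → Nat.log q x < b := fun x hx => by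
    rcases Nat.eq_zero_or_pos x with rfl | hx0
    · rw [Nat.log_zero_right]; omega
    · exact Nat.log_lt_of_lt_pow hx0.ne' hx
  have h2 : padicValNat q n.factorial = ∑ t ∈ Ico 1 b, n / q ^ t :=
    padicValNat_factorial (hlog n (by omega))
  have h3 : ∑ i, padicValNat q (β i).factorial = ∑ t ∈ Ico 1 b, ∑ i, β i / q ^ t := by
    rw [Finset.sum_comm]
    exact Finset.sum_congr rfl fun i _ => padicValNat_factorial (hlog _ (hbi i))
  rw [h2, h3, sum_vd hβ hbi, Finset.mul_sum, Finset.mul_sum, ← Finset.sum_add_distrib] at h1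
  have h4 : ∑ t ∈ Ico 1 b, (2 * (n / q ^ t) + 2 * npairs (q ^ t) β) ≤ ∑ t ∈ Ico 1 b, 2 * ∑ i, β i / q ^ t :=
    Finset.sum_le_sum fun t _ => by have := h t; omega
  omega

end Val

/-! ### the `q`-adic cycle type -/

/-- the digits `t, ..., t + k - 1` -/
def dg (q n t k : ℕ) : Multiset ℕ := ∑ i ∈ range k, Multiset.replicate (n / q ^ (t + i) % q) (q ^ (t + i))

theorem mem_dg {q n t k x : ℕ} (h : x ∈ dg q n t k) : ∃ i, x = q ^ (t + i) := by
  unfold dg at h
  rw [Multiset.mem_sum] at h
  obtain ⟨i, -, hi⟩ := h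
  exact ⟨i, Multiset.eq_of_mem_replicate hi⟩

theorem dg_add (q n t k l : ℕ) : dg q n t (k + l) = dg q n t k + dg q n (t + k) l := by
  unfold dg
  rw [Finset.sum_range_add]
  simp only [add_assoc]

theorem sum_dg (q n t k : ℕ) : (dg q n t k).sum + q ^ (t + k) * (n / q ^ (t + k)) = q ^ t * (n / q ^ t) := by
  induction k with
  | zero => simp [dg]
  | succ k ih =>
    rw [dg_add, Multiset.sum_add, ← ih]
    have h1 : (dg q n (t + k) 1).sum = n / q ^ (t + k) % q * q ^ (t + k) := by
      simp [dg, Multiset.sum_replicate]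
    have h2 : n / q ^ (t + (k + 1)) = n / q ^ (t + k) / q := by
      rw [← add_assoc, pow_succ, Nat.div_div_eq_div_mul]
    rw [h1, h2, ← add_assoc t k 1, pow_succ]
    have h3 := Nat.mod_add_div (n / q ^ (t + k)) q
    calc (dg q n t k).sum + n / q ^ (t + k) % q * q ^ (t + k) + q ^ (t + k) * q * (n / q ^ (t + k) / q)
        = (dg q n t k).sum + q ^ (t + k) * (n / q ^ (t + k) % q + q * (n / q ^ (t + k) / q)) := by ring
      _ = _ := by rw [h3]

/-- if the value at the `q`-adic cycle type is not zero, then the degree is prime to `q` -/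
theorem val_zero_of_ne {q : ℕ} [hq : Fact q.Prime] {n L : ℕ} (hL : n < q ^ L) {β : Fin m → ℕ}
    (hs : ∑ i, β i = n + ∑ i : Fin m, (i : ℕ)) (h : FM (dg q n 0 L) β ≠ 0) :
    padicValNat q (Int.natAbs (FM (Multiset.replicate n 1) β)) = 0 := by
  have hinj := injective_of_ne h
  refine val_zero hinj hs fun t => ?_
  have hq0 : 0 < q ^ t := Nat.pow_pos hq.out.pos
  rcases Nat.lt_or_ge L t with ht | ht
  · have h1 : n / q ^ t = 0 := Nat.div_eq_of_lt (lt_of_lt_of_le hL (Nat.pow_le_pow_right hq.out.pos ht.le))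
    rw [h1, zero_add]
    exact npairs_le hq0 hinj
  · obtain ⟨k, rfl⟩ := Nat.exists_eq_add_of_le ht
    have h1 : dg q n 0 (t + k) = dg q n t k + dg q n 0 t := by
      rw [dg_add, zero_add, add_comm]
    rw [h1] at h
    have h2 := weight_ge hq0 _ _ (fun x hx => by
      obtain ⟨i, rfl⟩ := mem_dg hx
      exact pow_dvd_pow q (Nat.le_add_right t i)) h
    have h3 := sum_dg q n t k
    rw [Nat.div_eq_of_lt hL, mul_zero, add_zero] at h3
    rwa [h3, Nat.mul_div_cancel_left _ hq0] at h2

end Cfsg.Agent.H549.PBA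

private theorem dce_fb0e3602aa00 : _root_.True := by
  try have : _root_.True := by simp only [_root_.Cfsg.Agent.H549.PBA.dg.eq_1]
  exact _root_.True.intro
end

-- part: H549/PBA/Bin
section
set_option linter.all false
open scoped Cfsg.Agent.FastGrp

/-!
# Values of the characters of the symmetric groups at elements with rapidly decreasing cycle lengths (helper549, S4884)

`Fast u` : `u` is a list of positive numbers, each one larger than the sum of the following ones;
`abs_FM_le_one` : `|FM u β| ≤ 1`.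
-/

set_option autoImplicit false
set_option linter.unusedSectionVars false

namespace Cfsg.Agent.H549.PBA

open Finset Cfsg.Agent.H614

variable {m : ℕ}

/-- every entry is larger than the sum of the following ones -/
def Fast : List ℕ → Prop
  | [] => True
  | r :: u => u.sum < r ∧ Fast u

/-- at most one rim hook of a length larger than half of the degree -/
theorem hook_unique {n r : ℕ} {β : Fin m → ℕ} (hβ : Function.Injective β)
    (hs : ∑ i, β i = n + ∑ i : Fin m, (i : ℕ)) (hr : n < 2 * r) {j k : Fin m} (hj : r ≤ β j) (hk : r ≤ β k)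
    (hj' : Function.Injective (dn β j r)) (hk' : Function.Injective (dn β k r)) : j = k := by
  by_contra hjk
  have hk2 : dn β j r k = β k := dn_ne β r (Ne.symm hjk)
  have hinj : Function.Injective (dn (dn β j r) k r) := by
    intro a b hab
    by_contra hne
    by_cases ha : a = k
    · subst ha
      have hb : b ≠ a := Ne.symm hne
      rw [dn_self, hk2, dn_ne _ _ hb] at hab
      by_cases hbj : b = j
      · subst hbj
        rw [dn_self] at hab
        exact hne (hβ (by omega))
      · rw [dn_ne _ _ hbj] at hab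
        have h1 : dn β a r a = dn β a r b := by rw [dn_self, dn_ne _ _ hb]; exact hab
        exact hne (hk' h1)
    · rw [dn_ne _ _ ha] at hab
      by_cases hb : b = k
      · subst hb
        rw [dn_self, hk2] at hab
        by_cases haj : a = j
        · subst haj
          rw [dn_self] at hab
          exact hne (hβ (by omega))
        · rw [dn_ne _ _ haj] at hab
          have h1 : dn β b r a = dn β b r b := by rw [dn_self, dn_ne _ _ ha]; exact hab
          exact hne (hk' h1)
      · rw [dn_ne _ _ hb] at hab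
        exact hne (hj' hab)
  have h1 := sum_le_of_injective hinj
  have h2 := sum_dn β j hj
  have h3 := sum_dn (dn β j r) k (r := r) (by rw [hk2]; exact hk)
  omega

theorem abs_FM_le_one : ∀ (u : List ℕ), Fast u → ∀ {β : Fin m → ℕ},
    ∑ i, β i = u.sum + ∑ i : Fin m, (i : ℕ) → |FM (u : Multiset ℕ) β| ≤ 1 := by
  intro u
  induction u with
  | nil =>
    intro _ β hs
    by_cases hβ : Function.Injective β
    · rw [List.sum_nil, zero_add] at hs
      show |FM 0 β| ≤ 1
      rw [FM_zero]
      unfold vac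
      by_cases h0 : ∃ σ : Equiv.Perm (Fin m), β = fun i => ((σ i : Fin m) : ℕ)
      · obtain ⟨σ, hσ⟩ := h0
        rw [Finset.sum_eq_single σ]
        · rw [if_pos hσ]
          unfold sg
          rcases Int.units_eq_one_or (Equiv.Perm.sign σ) with h | h <;> simp [h]
        · intro τ _ hτ
          rw [if_neg]
          intro h1
          apply hτ
          ext i
          have := congrFun (hσ.symm.trans h1) i
          exact this.symm
        · intro h
          exact absurd (Finset.mem_univ _) h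
      · rw [Finset.sum_eq_zero fun τ _ => if_neg fun h => h0 ⟨τ, h⟩]
        norm_num
    · have : FM ((([] : List ℕ) : Multiset ℕ)) β = 0 := by
        by_contra h
        exact hβ (injective_of_ne h)
      rw [this]
      norm_num
  | cons r u ih =>
    intro hu β hs
    by_cases hβ : Function.Injective β
    swap
    · have : FM (((r :: u : List ℕ)) : Multiset ℕ) β = 0 := by
        by_contra h
        exact hβ (injective_of_ne h)
      rw [this]
      norm_num
    rw [List.sum_cons] at hs
    rw [← Multiset.cons_coe, FM_cons]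
    by_cases hex : ∃ j, r ≤ β j ∧ Function.Injective (dn β j r)
    · obtain ⟨j, hj, hj'⟩ := hex
      rw [Finset.sum_eq_single j]
      · rw [if_pos hj]
        apply ih hu.2
        have := sum_dn β j hj
        omega
      · intro k _ hkj
        split_ifs with hk
        · by_contra hne
          exact hkj (hook_unique hβ hs (by have := hu.1; omega) hk hj (injective_of_ne hne) hj')
        · rfl
      · intro h
        exact absurd (Finset.mem_univ _) h
    · rw [Finset.sum_eq_zero]
      · norm_num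
      · intro k _
        split_ifs with hk
        · by_contra hne
          exact hex ⟨k, hk, injective_of_ne hne⟩
        · rfl

end Cfsg.Agent.H549.PBA
end

-- part: H549/PBA/BinPerm
section
set_option linter.all false
open scoped Cfsg.Agent.FastGrp

/-!
# The symmetric group at elements with distinct cycle lengths, all powers of two (helper549, S4884, block D1)

* `perm_le_one` : every irreducible character of `Perm α` has value `0, 1, -1` at `w` if the cycle lengths of `w` (fixed
  points included) are distinct powers of two;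
* `odd_of_ne` : an irreducible character of a finite group with an odd integral value at a `2`-element has odd degree.
-/

set_option autoImplicit false
set_option linter.unusedSectionVars false

open Cfsg

namespace Cfsg.Agent.H549.PBA

open Cfsg.Agent.H614 Cfsg.Agent.Blocks Cfsg.Agent.Blocks.Local

universe u

/-- distinct powers of two form a fast decreasing list -/
theorem exists_fast_finset (S : Finset ℕ) :
    ∃ u : List ℕ, Fast u ∧ (u : Multiset ℕ) = S.val.map (fun k => 2 ^ k) := by
  induction S using Finset.induction_on_max with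
  | empty => exact ⟨[], trivial, rfl⟩
  | insert a S ha ih =>
    obtain ⟨u, hu, hus⟩ := ih
    refine ⟨2 ^ a :: u, ⟨?_, hu⟩, ?_⟩
    · have h1 : u.sum = ∑ k ∈ S, 2 ^ k := by
        rw [← Multiset.sum_coe, hus]
        rfl
      rw [h1]
      calc ∑ k ∈ S, 2 ^ k ≤ ∑ k ∈ Finset.range a, 2 ^ k :=
            Finset.sum_le_sum_of_subset fun k hk => Finset.mem_range.2 (ha k hk)
        _ < 2 ^ a := by
            have := Nat.geomSum_lt (m := 2) (n := a) (s := Finset.range a) le_rfl fun k hk => Finset.mem_range.1 hk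
            exact this
    · have h2 : a ∉ S := fun h => lt_irrefl _ (ha a h)
      rw [Finset.insert_val_of_notMem h2, Multiset.map_cons, ← hus, Multiset.cons_coe]

theorem exists_fast {s : Multiset ℕ} (h1 : s.Nodup) (h2 : ∀ x ∈ s, ∃ k, x = 2 ^ k) :
    ∃ u : List ℕ, Fast u ∧ (u : Multiset ℕ) = s := by
  have h3 : (s.toFinset.image (Nat.log 2)).val.map (fun k => 2 ^ k) = s := by
    have h4 : ∀ x ∈ s, 2 ^ Nat.log 2 x = x := by
      intro x hx
      obtain ⟨k, rfl⟩ := h2 x hx
      rw [Nat.log_pow (by norm_num)]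
    rw [Finset.image_val_of_injOn]
    · rw [Multiset.toFinset_val, h1.dedup, Multiset.map_map]
      conv_rhs => rw [← Multiset.map_id s]
      exact Multiset.map_congr rfl h4
    · intro x hx y hy hxy
      rw [← h4 x (Multiset.mem_toFinset.1 hx), ← h4 y (Multiset.mem_toFinset.1 hy)]
      exact congrArg _ hxy
  rw [← h3]
  exact exists_fast_finset _

section Perm

variable {α : Type u} [Fintype α] [DecidableEq α]

theorem perm_le_one_of_fast {χ : Equiv.Perm α → ℂ} (hχ : IsIrrCharacter (Equiv.Perm α) χ) {w : Equiv.Perm α}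
    {u : List ℕ} (hu : Fast u) (hw : ty w = (u : Multiset ℕ)) : ∃ z : ℤ, χ w = (z : ℂ) ∧ |z| ≤ 1 := by
  obtain ⟨β, hβ, hs, hβχ⟩ := irr_eq (α := α) (m := Fintype.card α) le_rfl hχ
  refine ⟨FM (ty w) β, by rw [hβχ]; rfl, ?_⟩
  rw [hw]
  refine abs_FM_le_one u hu ?_
  have h1 : (ty w).sum = Fintype.card α := w.partition.parts_sum
  rw [hs, ← h1, hw, Multiset.sum_coe]

/-- **Block D1** -/
theorem perm_le_one {χ : Equiv.Perm α → ℂ} (hχ : IsIrrCharacter (Equiv.Perm α) χ) {w : Equiv.Perm α}
    (h1 : (ty w).Nodup) (h2 : ∀ x ∈ ty w, ∃ k, x = 2 ^ k) : ∃ z : ℤ, χ w = (z : ℂ) ∧ |z| ≤ 1 := by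
  obtain ⟨u, hu, hus⟩ := exists_fast h1 h2
  exact perm_le_one_of_fast hχ hu hus.symm

end Perm

/-- an odd value at a `2`-element -/
theorem odd_of_value {G : Type u} [Group G] [Finite G] {χ : G → ℂ} (hχ : IsIrrCharacter G χ) {w : G}
    (hw : ∃ k : ℕ, orderOf w = 2 ^ k) {z : ℤ} (hz : χ w = (z : ℂ)) (hz2 : ¬ 2 ∣ z) : ¬ 2 ∣ charDegree χ := by
  obtain ⟨M, hM⟩ := ExistsModular.exists_isPModular Nat.prime_two
  have hMp := Local.isPrime_of_isPModular hM
  have h1 : IsPPart 2 w w := ⟨1, by rw [mul_one], Commute.one_right _, hw, by rw [orderOf_one]; decide⟩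
  have h2 := Cfsg.Agent.CharactersDeep.ModCongr.memLocalIdeal_character_sub hM hχ _ _ h1
  rw [inv_mul_cancel, hz, Blocks.Basic.irr_one_eq_charDegree hχ] at h2
  intro h3
  apply hz2
  have h4 : MemLocalIdeal M ((z : ℂ) - ((charDegree χ : ℤ) : ℂ)) := by exact_mod_cast h2
  rw [← Int.cast_sub, memLocalIdeal_intCast_iff hM] at h4
  have h5 : (2 : ℤ) ∣ (charDegree χ : ℤ) := by exact_mod_cast h3
  have h6 := dvd_add h4 h5
  rwa [sub_add_cancel] at h6

end Cfsg.Agent.H549.PBA
end

-- part: H617/EqD/CoL
section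
set_option linter.all false

/-! The equation lemmas of `coL`, realized once (so that the modules above do not hold copies of them). -/

set_option autoImplicit false

namespace Cfsg.Agent.H617.EqD

open Cfsg.Agent.H439.CC

end Cfsg.Agent.H617.EqD

private theorem dce_ecfb475b142b : _root_.True := by
  try have : _root_.True := by simp only [_root_.Cfsg.Agent.H439.CC.coL.eq_1]
  try have : _root_.True := by simp only [_root_.Cfsg.Agent.H439.CC.coL.eq_def]
  try have : _root_.True := by simp only [_root_.Cfsg.Agent.H439.CC.coL.eq_2]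
  exact _root_.True.intro
end

-- part: H364/CC/E1
section
set_option linter.all false
open scoped Cfsg.Agent.FastGrp

/-!
# S4884, classical groups in cross characteristic: (E1), the factorization of `TT` (helper364)

* `TT_eq` : `TT rk ds A` as a sum over the chains above `A`;
* `rho_eq` : the same for `ρ`;
* `e1` : `TT rk (k :: ds) A = ∑_B ρ(A, B) TT rk ds B`.
-/

set_option autoImplicit false

namespace Cfsg.Agent.H364.CC

open Cfsg.Agent.H439.CC Finset

universe u

/-! ### the coefficients -/

theorem coL_nil (K : Finset ℕ) : coL [] K = if K = ∅ then 1 else 0 := by rw [coL]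

theorem coL_cons_not {k : ℕ} {ds : List ℕ} {K : Finset ℕ} (h : k ∉ K) : coL (k :: ds) K = 0 := by
  rw [coL, dif_neg h]

theorem coL_cons {k : ℕ} {ds : List ℕ} {K : Finset ℕ} (h : k ∈ K) : coL (k :: ds) K =
    (-1) ^ ((K.filter fun x => x < k).card) * (K.min' ⟨k, h⟩ : ℤ) *
      coL ds ((K.filter fun x => k < x).image fun x => x - k) := by
  rw [coL, dif_pos h]

theorem subset_of_coL_ne {ds : List ℕ} : ∀ {K : Finset ℕ}, coL ds K ≠ 0 → K ⊆ Icc 1 ds.sum := by
  induction ds with
  | nil =>
    intro K h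
    rw [coL_nil] at h
    split_ifs at h with h1
    · rw [h1]
      exact empty_subset _
    · exact absurd rfl h
  | cons k ds ih =>
    intro K h x hx
    have hk : k ∈ K := by
      by_contra hk
      exact h (coL_cons_not hk)
    rw [coL_cons hk] at h
    have h0 : 0 ∉ K := by
      intro h0
      apply h
      have h1 : K.min' ⟨k, hk⟩ = 0 := Nat.le_zero.1 (min'_le K 0 h0)
      rw [h1, Nat.cast_zero, mul_zero, zero_mul]
    have h2 := ih (right_ne_zero_of_mul h)
    rw [mem_Icc, List.sum_cons]
    have hx1 : 1 ≤ x := Nat.one_le_iff_ne_zero.2 fun h => h0 (h ▸ hx)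
    refine ⟨hx1, ?_⟩
    rcases Nat.lt_or_ge k x with h3 | h3
    · have h4 := h2 (mem_image.2 ⟨x, mem_filter.2 ⟨hx, h3⟩, rfl⟩)
      rw [mem_Icc] at h4
      omega
    · omega

/-! ### chains -/

variable {P : Type u} [PartialOrder P]

omit [PartialOrder P] in
/-- `∑_K f(K) #{c : im c = K} = ∑_c f(im c)` -/
theorem sum_card [Finite P] (p : Finset P → Prop) (im : Finset P → Finset ℕ) (f : Finset ℕ → ℤ) (N : ℕ)
    (hf : ∀ K, f K ≠ 0 → K ⊆ Icc 1 N) :
    ∑ K ∈ (Icc 1 N).powerset, f K * (Nat.card {c : Finset P // p c ∧ im c = K} : ℤ) =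
      ∑ᶠ c : {c : Finset P // p c}, f (im c.1) := by
  classical
  have : Fintype P := Fintype.ofFinite P
  have e1 : ∑ᶠ c : {c : Finset P // p c}, f (im c.1) = ∑ c ∈ univ.filter p, f (im c) := by
    rw [finsum_eq_sum_of_fintype, ← Finset.sum_subtype_eq_sum_filter, Finset.subtype_univ]
  rw [e1, Finset.sum_comp f im]
  refine Finset.sum_congr_of_eq_on_inter ?_ ?_ ?_
  · intro K _ hK
    have h1 : Nat.card {c : Finset P // p c ∧ im c = K} = 0 := by
      rw [Nat.card_eq_zero]
      left
      refine ⟨fun c => hK (mem_image.2 ⟨c.1, mem_filter.2 ⟨mem_univ _, c.2.1⟩, c.2.2⟩)⟩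
    rw [h1, Nat.cast_zero, mul_zero]
  · intro K _ hK
    by_cases h : f K = 0
    · rw [h, smul_zero]
    · exact absurd (mem_powerset.2 (hf K h)) hK
  · intro K _ _
    have h1 : Nat.card {c : Finset P // p c ∧ im c = K} = #{c ∈ univ.filter p | im c = K} := by
      rw [filter_filter, Nat.card_eq_fintype_card, Fintype.card_subtype]
    rw [h1, nsmul_eq_mul, mul_comm]

/-- the chains above `A` -/
def Ch (A : P) (c : Finset P) : Prop := IsChain (· ≤ ·) (c : Set P) ∧ ∀ x ∈ c, A < x

/-- the chains in `(A, B]` containing `B` -/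
def ChB (A B : P) (c : Finset P) : Prop := IsChain (· ≤ ·) (c : Set P) ∧ (∀ x ∈ c, A < x ∧ x ≤ B) ∧ B ∈ c

/-- the relative ranks -/
def im (rk : P → ℕ) (A : P) (c : Finset P) : Finset ℕ := c.image fun x => rk x - rk A

theorem TT_eq [Finite P] (rk : P → ℕ) (ds : List ℕ) (A : P) :
    TT rk ds A = ∑ᶠ c : {c : Finset P // Ch A c}, coL ds (im rk A c.1) := by
  classical
  rw [← sum_card (Ch A) (im rk A) (coL ds) ds.sum fun K h => subset_of_coL_ne h]
  unfold TT fl
  refine sum_congr rfl fun K _ => ?_
  congr 2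
  exact Nat.card_congr (Equiv.subtypeEquivRight fun c => ⟨fun h => ⟨⟨h.1, h.2.1⟩, h.2.2⟩, fun h => ⟨h.1.1, h.1.2, h.2⟩⟩)

theorem rho_eq [Finite P] (rk : P → ℕ) (k : ℕ) (A B : P) :
    rho rk k A B = ∑ᶠ c : {c : Finset P // ChB A B c}, coL [k] (im rk A c.1) := by
  classical
  rw [← sum_card (ChB A B) (im rk A) (coL [k]) k fun K h => by
    have := subset_of_coL_ne h
    rwa [List.sum_singleton] at this]
  unfold rho flB
  refine sum_congr rfl fun K _ => ?_
  congr 2
  exact Nat.card_congr (Equiv.subtypeEquivRight fun c =>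
    ⟨fun h => ⟨⟨h.1, h.2.1, h.2.2.1⟩, h.2.2.2⟩, fun h => ⟨h.1.1, h.1.2.1, h.1.2.2, h.2⟩⟩)

/-- the coefficient of a composed chain -/
theorem coL_union {rk : P → ℕ} (hrk : StrictMono rk) {k : ℕ} (ds : List ℕ) {A B : P} (hB : rk B = rk A + k)
    {c₁ c₂ : Finset P} [DecidableEq P] (h₁ : ChB A B c₁) (h₂ : Ch B c₂) :
    coL (k :: ds) (im rk A (c₁ ∪ c₂)) = coL [k] (im rk A c₁) * coL ds (im rk B c₂) := by
  obtain ⟨h3, h4, h5⟩ := h₁
  obtain ⟨h6, h7⟩ := h₂
  have hk1 : k ∈ im rk A c₁ := mem_image.2 ⟨B, h5, by omega⟩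
  have e0 : im rk A (c₁ ∪ c₂) = im rk A c₁ ∪ im rk A c₂ := image_union _ _
  have hle : ∀ x ∈ im rk A c₁, x ≤ k := by
    intro x hx
    obtain ⟨y, hy, rfl⟩ := mem_image.1 hx
    have := hrk.monotone (h4 y hy).2
    omega
  have hgt : ∀ x ∈ im rk A c₂, k < x := by
    intro x hx
    obtain ⟨y, hy, rfl⟩ := mem_image.1 hx
    have := hrk (h7 y hy)
    omega
  have hk : k ∈ im rk A (c₁ ∪ c₂) := by
    rw [e0]
    exact mem_union_left _ hk1
  have e1 : (im rk A (c₁ ∪ c₂)).filter (fun x => x < k) = (im rk A c₁).filter fun x => x < k := by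
    ext x
    rw [mem_filter, mem_filter, e0, mem_union]
    constructor
    · rintro ⟨h8 | h8, h9⟩
      · exact ⟨h8, h9⟩
      · have := hgt x h8
        omega
    · rintro ⟨h8, h9⟩
      exact ⟨Or.inl h8, h9⟩
  have e2 : ((im rk A (c₁ ∪ c₂)).filter fun x => k < x) = im rk A c₂ := by
    ext x
    rw [mem_filter, e0, mem_union]
    constructor
    · rintro ⟨h8 | h8, h9⟩
      · have := hle x h8
        omega
      · exact h8
    · intro h8
      exact ⟨Or.inr h8, hgt x h8⟩
  have e3 : (im rk A c₂).image (fun x => x - k) = im rk B c₂ := by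
    unfold im
    rw [image_image]
    refine image_congr fun x _ => ?_
    show rk x - rk A - k = rk x - rk B
    omega
  have e4 : ((im rk A c₁).filter fun x => k < x) = ∅ := by
    rw [filter_eq_empty_iff]
    intro x hx h8
    have := hle x hx
    omega
  have e5 : (im rk A (c₁ ∪ c₂)).min' ⟨k, hk⟩ = (im rk A c₁).min' ⟨k, hk1⟩ := by
    apply le_antisymm
    · apply min'_le
      rw [e0]
      exact mem_union_left _ (min'_mem _ _)
    · apply le_min'
      intro y hy
      rw [e0, mem_union] at hy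
      rcases hy with hy | hy
      · exact min'_le _ _ hy
      · exact (min'_le _ _ hk1).trans (hgt y hy).le
  rw [coL_cons hk, coL_cons hk1, e1, e2, e3, e4, e5, image_empty, coL_nil, if_pos rfl, mul_one]

/-- **(E1)** -/
theorem e1 : E1.{u} := by
  intro P _ _ rk hrk k ds A _ _
  classical
  have : Fintype P := Fintype.ofFinite P
  let f : Finset P → ℤ := fun c => coL (k :: ds) (im rk A c)
  let S : Finset P := univ.filter fun B => A < B ∧ rk B = rk A + k
  have hL : TT rk (k :: ds) A = ∑ c ∈ univ.filter (Ch A), f c := by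
    rw [TT_eq, finsum_eq_sum_of_fintype, ← Finset.sum_subtype_eq_sum_filter, Finset.subtype_univ]
  have hR : ∀ B : P, rho rk k A B * TT rk ds B = ∑ x ∈ (univ.filter (ChB A B)) ×ˢ (univ.filter (Ch B)),
      coL [k] (im rk A x.1) * coL ds (im rk B x.2) := by
    intro B
    have hA : rho rk k A B = ∑ x ∈ univ.filter (ChB A B), coL [k] (im rk A x) := by
      rw [rho_eq, finsum_eq_sum_of_fintype, ← Finset.sum_subtype_eq_sum_filter, Finset.subtype_univ]
    have hB : TT rk ds B = ∑ x ∈ univ.filter (Ch B), coL ds (im rk B x) := by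
      rw [TT_eq, finsum_eq_sum_of_fintype, ← Finset.sum_subtype_eq_sum_filter, Finset.subtype_univ]
    rw [hA, hB, Finset.sum_mul_sum, Finset.sum_product]
  rw [hL]
  have hS : ∑ᶠ B : {B : P // A < B ∧ rk B = rk A + k}, rho rk k A B.1 * TT rk ds B.1 =
      ∑ B ∈ S, rho rk k A B * TT rk ds B := by
    rw [finsum_eq_sum_of_fintype, ← Finset.sum_subtype_eq_sum_filter, Finset.subtype_univ]
  rw [hS]
  -- each chain contains at most one element of `S`
  have h1 : ∀ c ∈ univ.filter (Ch A), f c = ∑ B ∈ S, if B ∈ c then f c else 0 := by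
    intro c hc
    rw [mem_filter] at hc
    by_cases hk : k ∈ im rk A c
    · obtain ⟨B, hB, hBk⟩ := mem_image.1 hk
      have hAB := hc.2.2 B hB
      have h2 := hrk hAB
      rw [Finset.sum_eq_single B]
      · rw [if_pos hB]
      · intro B' hB' hne
        rw [if_neg]
        intro hB'c
        apply hne
        rw [mem_filter] at hB'
        rcases hc.2.1.total (mem_coe.2 hB) (mem_coe.2 hB'c) with h3 | h3
        · rcases h3.eq_or_lt with h4 | h4
          · exact h4.symm
          · have := hrk h4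
            omega
        · rcases h3.eq_or_lt with h4 | h4
          · exact h4
          · have := hrk h4
            omega
      · intro hBS
        exact absurd (mem_filter.2 ⟨mem_univ _, hAB, by omega⟩) hBS
    · have h2 : f c = 0 := coL_cons_not hk
      rw [h2]
      simp
  rw [sum_congr rfl h1, sum_comm]
  refine sum_congr rfl fun B hB => ?_
  rw [mem_filter] at hB
  obtain ⟨-, hAB, hrB⟩ := hB
  rw [hR, ← sum_filter]
  refine sum_nbij' (fun c => (c.filter (· ≤ B), c.filter (B < ·))) (fun x => x.1 ∪ x.2) ?_ ?_ ?_ ?_ ?_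
  · intro c hc
    rw [mem_filter, mem_filter] at hc
    rw [mem_product, mem_filter, mem_filter]
    refine ⟨⟨mem_univ _, hc.1.2.1.mono (coe_subset.2 (filter_subset _ _)), fun x hx => ?_, ?_⟩, mem_univ _,
      hc.1.2.1.mono (coe_subset.2 (filter_subset _ _)), fun x hx => (mem_filter.1 hx).2⟩
    · rw [mem_filter] at hx
      exact ⟨hc.1.2.2 x hx.1, hx.2⟩
    · exact mem_filter.2 ⟨hc.2, le_rfl⟩
  · rintro ⟨c₁, c₂⟩ hx
    rw [mem_product, mem_filter, mem_filter] at hx
    obtain ⟨⟨-, h2, h3, h4⟩, -, h5, h6⟩ := hx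
    rw [mem_filter, mem_filter]
    refine ⟨⟨mem_univ _, ?_, fun x hx => ?_⟩, mem_union_left _ h4⟩
    · rw [coe_union]
      rintro x (hx | hx) y (hy | hy) hxy
      · exact h2 hx hy hxy
      · exact Or.inl ((h3 x hx).2.trans (h6 y hy).le)
      · exact Or.inr ((h3 y hy).2.trans (h6 x hx).le)
      · exact h5 hx hy hxy
    · rcases mem_union.1 hx with hx | hx
      · exact (h3 x hx).1
      · exact hAB.trans (h6 x hx)
  · intro c hc
    rw [mem_filter, mem_filter] at hc
    ext x
    rw [mem_union, mem_filter, mem_filter]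
    constructor
    · rintro (h | h) <;> exact h.1
    · intro hx
      rcases hc.1.2.1.total (mem_coe.2 hx) (mem_coe.2 hc.2) with h3 | h3
      · exact Or.inl ⟨hx, h3⟩
      · rcases h3.eq_or_lt with h4 | h4
        · exact Or.inl ⟨hx, h4.symm.le⟩
        · exact Or.inr ⟨hx, h4⟩
  · rintro ⟨c₁, c₂⟩ hx
    rw [mem_product, mem_filter, mem_filter] at hx
    obtain ⟨⟨-, h2, h3, h4⟩, -, h5, h6⟩ := hx
    refine Prod.ext ?_ ?_
    · ext x
      rw [mem_filter, mem_union]
      constructor
      · rintro ⟨h | h, h'⟩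
        · exact h
        · exact absurd (h6 x h) (not_lt_of_ge h')
      · intro h
        exact ⟨Or.inl h, (h3 x h).2⟩
    · ext x
      rw [mem_filter, mem_union]
      constructor
      · rintro ⟨h | h, h'⟩
        · exact absurd h' (not_lt_of_ge (h3 x h).2)
        · exact h
      · intro h
        exact ⟨Or.inr h, h6 x h⟩
  · intro c hc
    rw [mem_filter, mem_filter] at hc
    have h2 : c.filter (· ≤ B) ∪ c.filter (B < ·) = c := by
      ext x
      rw [mem_union, mem_filter, mem_filter]
      constructor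
      · rintro (h | h) <;> exact h.1
      · intro hx
        rcases hc.1.2.1.total (mem_coe.2 hx) (mem_coe.2 hc.2) with h3 | h3
        · exact Or.inl ⟨hx, h3⟩
        · rcases h3.eq_or_lt with h4 | h4
          · exact Or.inl ⟨hx, h4.symm.le⟩
          · exact Or.inr ⟨hx, h4⟩
    have h3 := coL_union hrk ds hrB (c₁ := c.filter (· ≤ B)) (c₂ := c.filter (B < ·))
      ⟨hc.1.2.1.mono (coe_subset.2 (filter_subset _ _)), fun x hx => ⟨hc.1.2.2 x (mem_filter.1 hx).1, (mem_filter.1 hx).2⟩,
        mem_filter.2 ⟨hc.2, le_rfl⟩⟩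
      ⟨hc.1.2.1.mono (coe_subset.2 (filter_subset _ _)), fun x hx => (mem_filter.1 hx).2⟩
    show coL (k :: ds) (im rk A c) = _
    rw [← h3, h2]

end Cfsg.Agent.H364.CC
end

-- part: H215/WB/WSide
section
set_option linter.all false
open scoped Cfsg.Agent.FastGrp

/-!
# S4884, block D: the Weyl side for type `B_n`, from the identity for the symmetric group

`NewtonS n` : the class function identity `∑_K co(K) ⟨1_{Y_K}, ψ⟩ = ψ(w)` in `S_n` (`Y_K` the Young subgroups).
-/

set_option autoImplicit false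
set_option linter.unusedSectionVars false

namespace Cfsg.Agent.H215.WB

open Cfsg Cfsg.Agent.Characters.Core Cfsg.Agent.H439.CC Cfsg.Agent.H549.PBA

/-! ### multiplicities -/

theorem mu_map {A G : Type*} [Group A] [Group G] (f : A →* G) (hf : Function.Injective f) (P : Subgroup A) (χ : G → ℂ) :
    mu (P.map f) χ = mu P (χ ∘ f) := by
  unfold mu
  rw [Nat.card_congr (P.equivMapOfInjective f hf).toEquiv]
  congr 1
  exact (finsum_eq_of_bijective (P.equivMapOfInjective f hf) (P.equivMapOfInjective f hf).bijective fun x => rfl).symm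

/-! ### the digits -/

theorem sum_dig (n : ℕ) : (dig n).sum = n := by
  unfold dig
  exact Nat.sum_map_two_pow_bitIndices n

theorem coL_ne : ∀ (ds : List ℕ) (K : Finset ℕ), ds ≠ [] → coL ds K ≠ 0 → ds.sum ∈ K := by
  intro ds
  induction ds with
  | nil => intro K h; exact absurd rfl h
  | cons k ds ih =>
    intro K _ h
    rw [coL] at h
    by_cases hk : k ∈ K
    · rw [dif_pos hk] at h
      have h1 := right_ne_zero_of_mul h
      by_cases hds : ds = []
      · rw [hds, List.sum_cons, List.sum_nil, add_zero]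
        exact hk
      · have h2 := ih _ hds h1
        rw [Finset.mem_image] at h2
        obtain ⟨x, hx, hxe⟩ := h2
        rw [Finset.mem_filter] at hx
        rw [List.sum_cons]
        have h3 : k + ds.sum = x := by omega
        rw [h3]
        exact hx.1
    · rw [dif_neg hk] at h
      exact absurd rfl h

theorem SI_of_fast : ∀ u : List ℕ, Fast u → SI (u : Multiset ℕ) := by
  intro u
  induction u with
  | nil => intro _; exact SI.zero
  | cons r u ih =>
    intro h
    rw [← Multiset.cons_coe]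
    refine SI.cons r _ (ih h.2) ?_
    rw [Multiset.sum_coe]
    exact h.1

theorem SI_dig (n : ℕ) : SI (dig n : Multiset ℕ) := by
  obtain ⟨u, hu, he⟩ := exists_fast (s := (dig n : Multiset ℕ)) (by
    rw [Multiset.coe_nodup]
    unfold dig
    exact (List.nodup_map_iff (Nat.pow_right_injective le_rfl)).2 Nat.bitIndices_nodup) (by
    intro x hx
    rw [Multiset.mem_coe] at hx
    unfold dig at hx
    obtain ⟨i, -, rfl⟩ := List.mem_map.1 hx
    exact ⟨i, rfl⟩)
  rw [← he]
  exact SI_of_fast u hu

theorem mem_dig {n x : ℕ} (hx : x ∈ dig n) : ∃ i, x = 2 ^ i ∧ x ≤ n := by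
  unfold dig at hx
  obtain ⟨i, hi, rfl⟩ := List.mem_map.1 hx
  exact ⟨i, rfl, Nat.two_pow_le_of_mem_bitIndices hi⟩

/-- an element with cycle lengths the binary digits -/
theorem exists_w (n : ℕ) : ∃ w : Equiv.Perm (Fin n), tp w = (dig n : Multiset ℕ) := by
  set s : Multiset ℕ := (dig n : Multiset ℕ) with hs
  set t : Multiset ℕ := s.filter fun x => 2 ≤ x with ht
  have hsum : s.sum = n := by rw [hs, Multiset.sum_coe, sum_dig]
  have hle : t.sum ≤ n := by
    rw [← hsum]
    exact sum_le_of_le (Multiset.filter_le _ _)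
  obtain ⟨w, hw⟩ := Equiv.Perm.exists_with_cycleType_iff (Fin n) |>.2 (⟨by rw [Fintype.card_fin]; exact hle,
    fun a ha => (Multiset.mem_filter.1 ha).2⟩ : t.sum ≤ Fintype.card (Fin n) ∧ ∀ a ∈ t, 2 ≤ a)
  refine ⟨w, ?_⟩
  rw [tp_eq, hw, Fintype.card_fin]
  have h1 : s = t + s.filter (fun x => ¬ 2 ≤ x) := (Multiset.filter_add_not _ _).symm
  have h2 : ∀ x ∈ s.filter (fun x => ¬ 2 ≤ x), x = 1 := by
    intro x hx
    rw [Multiset.mem_filter, hs, Multiset.mem_coe] at hx
    obtain ⟨i, hi, -⟩ := mem_dig hx.1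
    have : 0 < x := by rw [hi]; positivity
    omega
  have h3 := Multiset.eq_replicate_card.2 h2
  have h4 : (s.filter fun x => ¬ 2 ≤ x).sum = Multiset.card (s.filter fun x => ¬ 2 ≤ x) := by
    conv_lhs => rw [h3]
    rw [Multiset.sum_replicate, smul_eq_mul, mul_one]
  have h5 : n - t.sum = Multiset.card (s.filter fun x => ¬ 2 ≤ x) := by
    rw [← h4, ← hsum]
    conv_lhs => rw [h1]
    rw [Multiset.sum_add]
    omega
  rw [h5, ← h3]
  exact h1.symm

theorem orderOf_w {n : ℕ} {w : Equiv.Perm (Fin n)} (hw : tp w = (dig n : Multiset ℕ)) : ∃ k, orderOf w = 2 ^ k := by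
  have h1 : orderOf w ∣ 2 ^ n := by
    rw [← Equiv.Perm.lcm_cycleType, Multiset.lcm_dvd]
    intro x hx
    have h2 : x ∈ (dig n : Multiset ℕ) := by
      rw [← hw, tp_eq, Multiset.mem_add]
      exact Or.inl hx
    obtain ⟨i, hi, hin⟩ := mem_dig (Multiset.mem_coe.1 h2)
    rw [hi]
    refine pow_dvd_pow 2 ?_
    have h3 : i < 2 ^ i := Nat.lt_two_pow_self
    omega
  obtain ⟨k, -, hk⟩ := (Nat.dvd_prime_pow Nat.prime_two).1 h1
  exact ⟨k, hk⟩

/-! ### the Weyl side -/

/-- the standard Young subgroup of type `K` -/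
def Yn (n : ℕ) (K : Finset ℕ) : Subgroup (Equiv.Perm (Fin n)) :=
  Subgroup.closure {σ | ∃ (i : Fin n) (h : (i : ℕ) + 1 < n), (i : ℕ) + 1 ∉ K ∧ σ = Equiv.swap i ⟨i + 1, h⟩}

/-- **the identity in the symmetric group** -/
def NewtonS (n : ℕ) : Prop :=
  ∀ ψ : Equiv.Perm (Fin n) → ℂ, IsClassFunction (Equiv.Perm (Fin n)) ψ → ∀ w : Equiv.Perm (Fin n),
    tp w = (dig n : Multiset ℕ) →
    ∑ K ∈ (Finset.Icc 1 n).powerset, (coL (dig n) K : ℂ) * mu (Yn n K) ψ = ψ w

section B

variable {n : ℕ} {W : Type*} [Group W] (cs : CoxeterSystem (CoxeterMatrix.B n) W)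

/-- `S_n` in `W(B_n)` -/
noncomputable def emb : Equiv.Perm (Fin n) →* W :=
  (isoB cs).symm.toMonoidHom.comp (SemidirectProduct.inr : Equiv.Perm (Fin n) →* Wb (Fin n))

theorem emb_injective : Function.Injective (emb cs) := by
  intro a b h
  exact SemidirectProduct.inr_injective ((isoB cs).symm.injective h)

theorem emb_swap {i : Fin n} (h : (i : ℕ) + 1 < n) : emb cs (Equiv.swap i ⟨i + 1, h⟩) = cs.simple i := by
  change (isoB cs).symm _ = _
  rw [← isoB_simple_lt cs h, MulEquiv.symm_apply_apply]

theorem WJ_eq {K : Finset ℕ} (hK : n ∈ K ∨ n = 0) : WJ cs (JB K ()) = (Yn n K).map (emb cs) := by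
  unfold WJ Yn
  rw [MonoidHom.map_closure]
  congr 1
  ext x
  constructor
  · rintro ⟨i, hi, rfl⟩
    have hi' : (i : ℕ) + 1 ∉ K := hi
    have h1 : (i : ℕ) + 1 < n := by
      rcases hK with h | h
      · have h2 : (i : ℕ) + 1 ≠ n := fun h3 => hi' (by rw [h3]; exact h)
        have := i.2
        omega
      · exact absurd i.2 (by omega)
    exact ⟨_, ⟨i, h1, hi', rfl⟩, emb_swap cs h1⟩
  · rintro ⟨_, ⟨i, h, hi, rfl⟩, rfl⟩
    exact ⟨i, hi, (emb_swap cs h).symm⟩

/-- `∑_K co(K) ⟨1_{W_J(K)}, φ⟩ = φ(w)` -/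
theorem sum_B (hN : NewtonS n) {φ : W → ℂ} (hφ : IsClassFunction W φ) {w : Equiv.Perm (Fin n)}
    (hw : tp w = (dig n : Multiset ℕ)) :
    ∑ K ∈ (Finset.Icc 1 n).powerset, (coL (dig n) K : ℂ) * mu (WJ cs (JB K ())) φ = φ (emb cs w) := by
  have h1 := hN (φ ∘ emb cs) (by
    intro g x
    change φ (emb cs (x * g * x⁻¹)) = φ (emb cs g)
    rw [map_mul, map_mul, map_inv]
    exact hφ _ _) w hw
  rw [Function.comp_apply] at h1
  rw [← h1]
  refine Finset.sum_congr rfl fun K _ => ?_
  by_cases hc : coL (dig n) K = 0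
  · rw [hc, Int.cast_zero, zero_mul, zero_mul]
  · rw [WJ_eq cs, mu_map _ (emb_injective cs)]
    by_cases h0 : dig n = []
    · right
      rw [← sum_dig n, h0, List.sum_nil]
    · left
      have := coL_ne _ _ h0 hc
      rwa [sum_dig] at this

/-- **The Weyl side for type `B_n`** -/
theorem wside_B_of (hN : NewtonS n) : WSide cs n JB := by
  intro φ hne
  have : Finite W := Finite.of_equiv _ (isoB cs).symm.toEquiv
  obtain ⟨w, hw⟩ := exists_w n
  have h1 : ∑ K ∈ (Finset.Icc 1 n).powerset, ∑ j : Unit, (coL (dig n) K : ℂ) * mu (WJ cs (JB K j)) φ = φ.1 (emb cs w) := by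
    rw [← sum_B cs hN (isIrr_isClassFunction φ.2) hw]
    refine Finset.sum_congr rfl fun K _ => ?_
    rw [Finset.univ_unique, Finset.sum_singleton]
  rw [h1] at hne
  obtain ⟨k, hk⟩ := orderOf_w hw
  have h2 : ∃ k, orderOf (emb cs w) = 2 ^ k := ⟨k, by rw [orderOf_injective _ (emb_injective cs), hk]⟩
  rcases coxB cs φ.2 (w := w) (by rw [hw]; exact SI_dig n) with h | h | h
  · exact absurd h hne
  · exact odd_of_value φ.2 h2 (z := 1) (by rw [Int.cast_one]; exact h) (by norm_num)
  · exact odd_of_value φ.2 h2 (z := -1) (by rw [Int.cast_neg, Int.cast_one]; exact h) (by norm_num)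

end B

end Cfsg.Agent.H215.WB
end

-- part: H774/CC/Newton
section
set_option linter.all false
open scoped Cfsg.Agent.FastGrp

-- part: H774/CC/Rho
section
/-!
# S4884, block D: the function `ρ` for the stable subsets of a permutation

`St x` : the poset of the `x`-stable subsets; `orb x a` : the orbit of `a`;
`rho_St` : `ρ(A, B) = |B| - |A|` if `B \ A` is one orbit, and `0` otherwise.
-/

set_option autoImplicit false
set_option linter.unusedSectionVars false

namespace Cfsg.Agent.H774.CC

open Cfsg.Agent.H439.CC Cfsg.Agent.H364.CC Finset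

universe u

variable {α : Type u} [Fintype α] [DecidableEq α]

/-- the stable subsets -/
abbrev St (x : Equiv.Perm α) : Type u := {A : Finset α // ∀ a, x a ∈ A ↔ a ∈ A}

section rho

variable {x : Equiv.Perm α} {A B : St x} {k : ℕ}

end rho

end Cfsg.Agent.H774.CC
end

-- part: H774/CC/TT
section
/-!
# S4884, block D: `TT` for the stable subsets of a permutation

`TT_St` : `TT` above `A` is the product of the `ds` if the lengths of the orbits outside of `A` are the `ds`, and `0`
otherwise (`ds` without repetitions);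
`tyO_bot` : the lengths of the orbits are the parts of the partition.
-/

set_option autoImplicit false
set_option linter.unusedSectionVars false

namespace Cfsg.Agent.H774.CC

open Cfsg.Agent.H439.CC Cfsg.Agent.H364.CC Finset

universe u

variable {α : Type u} [Fintype α] [DecidableEq α]

end Cfsg.Agent.H774.CC
end

-- part: H774/CC/Young
section
/-!
# S4884, block D: the fixed points of a permutation on the cosets of a Young subgroup

`pf_Yn` : they are the flags of stable subsets.
-/

set_option autoImplicit false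
set_option linter.unusedSectionVars false

namespace Cfsg.Agent.H774.CC

open Cfsg.Agent.H439.CC Cfsg.Agent.H364.CC Finset
open Cfsg.Agent.H215.WB (Yn)
open scoped Pointwise

variable {n : ℕ}

end Cfsg.Agent.H774.CC
end

-- part: H774/CC/Newton
section
/-!
# S4884, block D: the identity in the symmetric group

`sum_pf` : `∑_K co(K) |Fix(x)| = ∏ dig n` if the cycle lengths of `x` are the binary digits of `n`, and `0` otherwise
(`Fix(x)` on the cosets of the Young subgroup of `K`);
`newtonS` : `∑_K co(K) ⟨1_{Y_K}, ψ⟩ = ψ(w)` for class functions `ψ`.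
-/

set_option autoImplicit false
set_option linter.unusedSectionVars false

namespace Cfsg.Agent.H774.CC

open Cfsg Cfsg.Agent.H439.CC Cfsg.Agent.H364.CC Finset
open Cfsg.Agent.H215.WB (Yn tp NewtonS sum_dig tp_eq tp_sum)

/-- multiplicities and fixed points -/
theorem mu_eq_sum {G : Type*} [Group G] [Fintype G] (P : Subgroup G) (ψ : G → ℂ) (hψ : IsClassFunction G ψ) :
    mu P ψ = (Fintype.card G : ℂ)⁻¹ * ∑ g : G, (pf P g : ℂ) * ψ g := by
  classical
  have := Fintype.ofFinite P
  have := Fintype.ofFinite (G ⧸ P)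
  have h1 : ∀ g : G, (pf P g : ℂ) = ∑ y : G ⧸ P, if g • y = y then (1 : ℂ) else 0 := by
    intro g
    unfold pf
    rw [Finset.sum_ite, Finset.sum_const_zero, add_zero, Finset.sum_const, nsmul_eq_mul, mul_one,
      ← Fintype.card_subtype, ← Nat.card_eq_fintype_card]
  have h2 : ∀ y : G ⧸ P, ∑ g : G, (if g • y = y then (1 : ℂ) else 0) * ψ g = ∑ h : P, ψ h := by
    intro y
    induction y using QuotientGroup.induction_on with
    | H a =>
      have h3 : ∑ g : G, (if g • (a : G ⧸ P) = a then (1 : ℂ) else 0) * ψ g =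
          ∑ h : G, if h ∈ P then ψ h else 0 := by
        refine (Fintype.sum_equiv (MulAut.conj a).toEquiv _ _ fun h => ?_).symm
        have h4 : (a * h * a⁻¹) • (a : G ⧸ P) = a ↔ h ∈ P := by
          rw [MulAction.Quotient.smul_coe, smul_eq_mul, eq_comm, QuotientGroup.eq]
          rw [show a⁻¹ * (a * h * a⁻¹ * a) = h by group]
        change (if h ∈ P then ψ h else 0) = (if (a * h * a⁻¹) • (a : G ⧸ P) = a then (1 : ℂ) else 0) * ψ (a * h * a⁻¹)
        by_cases h5 : h ∈ P
        · rw [if_pos h5, if_pos (h4.2 h5), one_mul, hψ]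
        · rw [if_neg h5, if_neg fun h => h5 (h4.1 h), zero_mul]
      rw [h3, ← Finset.sum_filter]
      exact (Finset.sum_subtype _ (fun x => by simp) _)
  have h3 : ∑ g : G, (pf P g : ℂ) * ψ g = (Fintype.card (G ⧸ P) : ℂ) * ∑ h : P, ψ h := by
    simp only [h1, Finset.sum_mul]
    rw [Finset.sum_comm, Finset.sum_congr rfl fun y _ => h2 y, Finset.sum_const, nsmul_eq_mul, Finset.card_univ]
  have h5 : (Nat.card P : ℂ) ≠ 0 := by exact_mod_cast Nat.card_pos.ne'
  have h6 : (Fintype.card G : ℂ) = (Fintype.card (G ⧸ P) : ℂ) * (Nat.card P : ℂ) := by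
    have := Subgroup.card_eq_card_quotient_mul_card_subgroup P
    rw [Nat.card_eq_fintype_card, Nat.card_eq_fintype_card (α := G ⧸ P)] at this
    exact_mod_cast this
  have h7 : (Fintype.card (G ⧸ P) : ℂ) ≠ 0 := by exact_mod_cast Fintype.card_ne_zero
  rw [h3, mu, finsum_eq_sum_of_fintype, h6]
  field_simp

end Cfsg.Agent.H774.CC
end

private theorem dce_edb4d5c77160 : _root_.True := by
  try have : _root_.True := by simp only [_root_.Cfsg.Agent.H439.CC.mu.eq_1]
  try have : _root_.True := by simp only [_root_.Cfsg.Agent.H215.WB.tp.congr_simp]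
  exact _root_.True.intro
end
end
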